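import Groth.Prelude.Def_EtRam
import Mathlib

/-!
# Normal forms modulo Artin–Schreier elements
-/

set_option autoImplicit false
set_option linter.style.haveILetI false
set_option linter.unusedSectionVars false
set_option maxHeartbeats 1000000

universe u

open IsLocalRing

noncomputable section

namespace Groth.Agent.ASWeakLib

theorem charP_residueField {R F : Type u} [CommRing R] [IsLocalRing R] [Field F] [Algebra R F]
    (hinj : Function.Injective (algebraMap R F)) {p : ℕ} [hp : Fact p.Prime] [CharP F p] :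
    CharP (ResidueField R) p := by
  haveI : CharP R p := (RingHom.charP_iff (algebraMap R F) hinj p).2 inferInstance
  refine (CharP.charP_iff_prime_eq_zero hp.out).2 ?_
  rw [← map_natCast (residue R) p, CharP.cast_eq_zero, map_zero]

/-- A generator of a cyclic extension of degree `p` in characteristic `p`. -/
theorem exists_generator {L M : Type u} [Field L] [Field M] [Algebra L M] {p : ℕ} [Fact p.Prime] [CharP L p]
    [IsGalois L M] (hdeg : Module.finrank L M = p) :
    ∃ (z : M) (ξ : L), z ^ p - z = algebraMap L M ξ ∧ IntermediateField.adjoin L {z} = ⊤ := by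
  classical
  have hp : p.Prime := Fact.out
  haveI : FiniteDimensional L M := Module.finite_of_finrank_pos (hdeg ▸ hp.pos)
  haveI : CharP M p := charP_of_injective_algebraMap (algebraMap L M).injective p
  have hcard : Nat.card (M ≃ₐ[L] M) = p := by rw [IsGalois.card_aut_eq_finrank, hdeg]
  haveI : IsCyclic (M ≃ₐ[L] M) := isCyclic_of_prime_card hcard
  obtain ⟨σ, hσ⟩ := IsCyclic.exists_generator (α := M ≃ₐ[L] M)
  have hord : orderOf σ = p := (orderOf_eq_card_of_forall_mem_zpowers hσ).trans hcard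
  have hinj : Function.Injective fun i : Fin p => ((σ ^ (i : ℕ) : M ≃ₐ[L] M).toAlgHom.toRingHom.toMonoidHom) :=
    fun i j h => Fin.ext (pow_injOn_Iio_orderOf (x := σ) (by rw [hord]; exact i.2) (by rw [hord]; exact j.2)
      (AlgEquiv.ext fun x => DFunLike.congr_fun h x))
  obtain ⟨θ, hθ⟩ : ∃ θ : M, ∑ i ∈ Finset.range p, (σ ^ i) θ ≠ 0 := by
    by_contra! hall
    have hli := (linearIndependent_monoidHom M M).comp _ hinj
    have h1 := Fintype.linearIndependent_iff.1 hli (fun _ => 1) (funext fun x => by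
      simp only [Function.comp_apply, one_smul, Finset.sum_apply, Pi.zero_apply]
      exact (Fin.sum_univ_eq_sum_range (fun i => (σ ^ i) x) p).trans (hall x)) ⟨0, hp.pos⟩
    exact one_ne_zero h1
  have hσp : ∀ x : M, (σ ^ p) x = x := fun x => by rw [← hord, pow_orderOf_eq_one]; rfl
  set c := ∑ i ∈ Finset.range p, (σ ^ i) θ with hc
  have hstep : ∀ i, σ ((σ ^ i) θ) = (σ ^ (i + 1)) θ := fun i => by rw [pow_succ', AlgEquiv.mul_apply]
  have hshift : ∑ i ∈ Finset.range p, (σ ^ (i + 1)) θ = c := by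
    have h2 := Finset.sum_range_sub (fun i => (σ ^ i) θ) p
    rw [Finset.sum_sub_distrib, hσp, pow_zero, AlgEquiv.one_apply, sub_self] at h2
    exact sub_eq_zero.1 h2
  have hσc : σ c = c := by
    rw [hc, map_sum, Finset.sum_congr rfl fun i _ => hstep i]
    exact hshift
  set s := ∑ i ∈ Finset.range p, (i : M) * (σ ^ i) θ with hs
  have hσs : σ s = s - c := by
    have h2 := Finset.sum_range_sub (fun i : ℕ => (i : M) * (σ ^ i) θ) p
    rw [CharP.cast_eq_zero, zero_mul, Nat.cast_zero, zero_mul, sub_zero, Finset.sum_sub_distrib] at h2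
    have h3 : σ s = ∑ i ∈ Finset.range p, (i : M) * (σ ^ (i + 1)) θ := by
      rw [hs, map_sum]
      exact Finset.sum_congr rfl fun i _ => by rw [map_mul, map_natCast, hstep]
    have h4 : ∑ i ∈ Finset.range p, ((i + 1 : ℕ) : M) * (σ ^ (i + 1)) θ = σ s + c := by
      rw [h3, ← hshift, ← Finset.sum_add_distrib]
      exact Finset.sum_congr rfl fun i _ => by push_cast; ring
    rw [h4] at h2
    linear_combination h2
  let z := -(s / c)
  have hσz : σ z = z + 1 := by
    simp only [z, map_neg, map_div₀, hσc, hσs, sub_div, div_self hθ]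
    ring
  obtain ⟨ξ, hξ⟩ : z ^ p - z ∈ Set.range (algebraMap L M) := by
    refine (IsGalois.mem_range_algebraMap_iff_fixed _).2 fun τ => ?_
    obtain ⟨k, rfl⟩ := Subgroup.mem_zpowers_iff.1 (hσ τ)
    refine MulAction.mem_stabilizer_iff.1 ((MulAction.stabilizer (M ≃ₐ[L] M) (z ^ p - z)).zpow_mem
      (MulAction.mem_stabilizer_iff.2 ?_) k)
    show σ (z ^ p - z) = z ^ p - z
    rw [map_sub, map_pow, hσz, add_pow_char, one_pow]
    ring
  refine ⟨z, ξ, hξ.symm, ?_⟩
  have hz : z ∉ Set.range (algebraMap L M) := by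
    rintro ⟨x, hx⟩
    have h := hσz
    rw [← hx, AlgEquiv.commutes] at h
    exact one_ne_zero (show (1 : M) = 0 by linear_combination -h)
  have hdvd : Module.finrank L (IntermediateField.adjoin L ({z} : Set M)) ∣ p :=
    hdeg ▸ ⟨_, (Module.finrank_mul_finrank L (IntermediateField.adjoin L ({z} : Set M)) M).symm⟩
  rcases (Nat.dvd_prime hp).1 hdvd with h | h
  · exact absurd (IntermediateField.mem_bot.1 (IntermediateField.finrank_eq_one_iff.1 h ▸
      IntermediateField.mem_adjoin_simple_self L z)) hz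
  · exact IntermediateField.eq_of_le_of_finrank_eq le_top (by rw [IntermediateField.finrank_top', hdeg, h])

variable (p : ℕ) (A B K L : Type u) [CommRing A] [CommRing B] [Algebra A B]
  [Field K] [Field L] [Algebra A K] [Algebra B L] [Algebra K L] [Algebra A L] [IsScalarTower A K L] [IsScalarTower A B L]

/-- The shape of the part coming from the base. -/
def IsLow (π : A) (n : ℕ) (α : K) : Prop :=
  α = 0 ∨ ∃ (n' : ℕ) (a : A), 0 < n' ∧ n' ≤ n ∧ ¬ p ∣ n' ∧ IsUnit a ∧ α * algebraMap A K π ^ n' = algebraMap A K a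

variable {p A B K L}

theorem exists_maximal_root [IsLocalRing A] [IsLocalRing B] [IsLocalHom (algebraMap A B)]
    (hk : ∀ x : ResidueField B, (∀ n : ℕ, ∃ y : ResidueField B, y ^ (p ^ n) = x) ↔
      x ∈ Set.range (algebraMap (ResidueField A) (ResidueField B)))
    (c : B) (hc : residue B c ∉ Set.range (algebraMap (ResidueField A) (ResidueField B))) :
    ∃ (m : ℕ) (v : B), residue B c = residue B v ^ p ^ m ∧ ∀ r : B, residue B v ≠ residue B r ^ p := by
  classical
  rw [← hk] at hc
  push Not at hc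
  have hex : ∃ n, ∀ y : ResidueField B, y ^ p ^ n ≠ residue B c := hc
  obtain ⟨m, hm⟩ : ∃ m, Nat.find hex = m + 1 := Nat.exists_eq_succ_of_ne_zero fun h0 => by
    have := Nat.find_spec hex (residue B c)
    rw [h0, pow_zero, pow_one] at this
    exact this rfl
  have hmin := Nat.find_min hex (show m < Nat.find hex by omega)
  push Not at hmin
  obtain ⟨y, hy⟩ := hmin
  obtain ⟨v, rfl⟩ := residue_surjective y
  refine ⟨m, v, hy.symm, fun r hr => ?_⟩
  have := Nat.find_spec hex (residue B r)
  rw [hm, pow_succ', pow_mul, ← hr] at this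
  exact this hy

/-- The residue field of the base is perfect. -/
theorem exists_root_residue [IsLocalRing A] [IsLocalRing B] [IsLocalHom (algebraMap A B)] [Fact p.Prime] [CharP (ResidueField B) p]
    (hk : ∀ x : ResidueField B, (∀ n : ℕ, ∃ y : ResidueField B, y ^ (p ^ n) = x) ↔
      x ∈ Set.range (algebraMap (ResidueField A) (ResidueField B)))
    (a : A) (N : ℕ) : ∃ r : A, residue A a = residue A r ^ p ^ N := by
  obtain ⟨y, hy⟩ := (hk _).2 ⟨residue A a, rfl⟩ N
  obtain ⟨b, hb⟩ := (hk y).1 fun m => by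
    obtain ⟨y', hy'⟩ := (hk _).2 ⟨residue A a, rfl⟩ (m + N)
    refine ⟨y', iterateFrobenius_inj (ResidueField B) p N ?_⟩
    simp only [iterateFrobenius_def]
    rw [← pow_mul, ← pow_add, hy', hy]
  obtain ⟨r, rfl⟩ := residue_surjective b
  refine ⟨r, (algebraMap (ResidueField A) (ResidueField B)).injective ?_⟩
  rw [map_pow, hb, hy]

/-- The normal form. -/
theorem decompose [IsDomain A] [IsDiscreteValuationRing A] [IsDomain B] [IsDiscreteValuationRing B]
    [IsFractionRing A K] [IsFractionRing B L] [IsLocalHom (algebraMap A B)] [Fact p.Prime] [CharP L p]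
    (hk : ∀ x : ResidueField B, (∀ n : ℕ, ∃ y : ResidueField B, y ^ (p ^ n) = x) ↔
      x ∈ Set.range (algebraMap (ResidueField A) (ResidueField B)))
    {π : A} (hπ : Irreducible π) (hπB : Irreducible (algebraMap A B π)) (n : ℕ) :
    ∀ (x : L) (c : B), x * algebraMap A L π ^ n = algebraMap B L c →
      ∃ (y : L) (b₀ : B) (α : K) (S : Finset ℕ) (v : ℕ → B) (m : ℕ → ℕ), IsLow p A K π n α ∧
        (∀ i ∈ S, 1 ≤ i ∧ i ≤ n ∧ (∀ r : B, residue B (v i) ≠ residue B r ^ p) ∧ (m i = 0 ∨ ¬ p ∣ i)) ∧
        x = y ^ p - y + algebraMap B L b₀ + algebraMap K L α +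
          ∑ i ∈ S, algebraMap B L (v i) ^ p ^ m i / algebraMap A L π ^ i := by
  classical
  have hp : p.Prime := Fact.out
  set t := algebraMap A L π with ht
  have htB : t = algebraMap B L (algebraMap A B π) := IsScalarTower.algebraMap_apply A B L π
  have ht0 : t ≠ 0 := by
    rw [htB]; exact (map_ne_zero_iff _ (IsFractionRing.injective B L)).2 hπB.ne_zero
  have hdvd : ∀ b : B, residue B b = 0 → ∃ d, b = algebraMap A B π * d := fun b hb =>
    Ideal.mem_span_singleton.1 (hπB.maximalIdeal_eq ▸ (residue_eq_zero_iff b).1 hb)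
  induction n using Nat.strong_induction_on with
  | _ n ih => ?_
  intro x c hxc
  rcases n.eq_zero_or_pos with rfl | hn
  · exact ⟨0, c, 0, ∅, fun _ => 0, fun _ => 0, Or.inl rfl, by simp,
      by rw [pow_zero, mul_one] at hxc; simp [hxc, hp.ne_zero]⟩
  have hstep : ∀ (d : B) (x' : L), x' * t ^ n = algebraMap B L (algebraMap A B π * d) →
      x' * t ^ (n - 1) = algebraMap B L d := fun d x' h => by
    refine mul_right_cancel₀ ht0 ?_
    rw [mul_assoc, ← pow_succ, Nat.sub_add_cancel hn, h, map_mul, ← htB, mul_comm]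
  by_cases hc0 : residue B c = 0
  · obtain ⟨d, rfl⟩ := hdvd c hc0
    obtain ⟨y, b₀, α, S, v, m, hα, hS, hx⟩ := ih (n - 1) (by omega) x d (hstep d x hxc)
    exact ⟨y, b₀, α, S, v, m, hα.imp_right fun ⟨n', a, h1, h2, h3⟩ => ⟨n', a, h1, by omega, h3⟩,
      fun i hi => ⟨(hS i hi).1, by have := (hS i hi).2.1; omega, (hS i hi).2.2⟩, hx⟩
  by_cases hpn : p ∣ n
  · by_cases hres : ∀ r : B, residue B c ≠ residue B r ^ p
    · refine ⟨0, 0, 0, {n}, fun _ => c, fun _ => 0, Or.inl rfl, fun i hi => ?_, ?_⟩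
      · rw [Finset.mem_singleton.1 hi]
        exact ⟨hn, le_rfl, hres, Or.inl rfl⟩
      · simp [hp.ne_zero, ← hxc, ht0]
    push Not at hres
    obtain ⟨r, hr⟩ := hres
    obtain ⟨d, hd⟩ := hdvd (c - r ^ p) (by rw [map_sub, map_pow, hr, sub_self])
    obtain ⟨l, hl⟩ := hpn
    have hl0 : 0 < l := Nat.pos_of_ne_zero fun h => by simp [h] at hl; omega
    have hln : l < n := by
      have : 1 * l < p * l := Nat.mul_lt_mul_of_pos_right hp.one_lt hl0
      omega
    set e := algebraMap B L r / t ^ l with he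
    have he' : e * t ^ l = algebraMap B L r := div_mul_cancel₀ _ (pow_ne_zero _ ht0)
    have hpow : e ^ p * t ^ n = algebraMap B L r ^ p := by rw [hl, mul_comm p l, pow_mul, ← mul_pow, he']
    have hrest : (x - e ^ p + e) * t ^ (n - 1) = algebraMap B L (d + r * algebraMap A B π ^ (n - 1 - l)) := by
      have h1 : (x - e ^ p) * t ^ (n - 1) = algebraMap B L d := hstep d _ (by
        rw [sub_mul, hxc, hpow, ← map_pow, ← map_sub, hd])
      have h2 : e * t ^ (n - 1) = algebraMap B L (r * algebraMap A B π ^ (n - 1 - l)) := by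
        rw [map_mul, map_pow, ← htB, ← he', mul_assoc, ← pow_add, Nat.add_sub_cancel' (by omega)]
      rw [add_mul, h1, h2, map_add]
    obtain ⟨y, b₀, α, S, v, m, hα, hS, hx⟩ := ih (n - 1) (by omega) _ _ hrest
    refine ⟨y + e, b₀, α, S, v, m, hα.imp_right fun ⟨n', a, h1, h2, h3⟩ => ⟨n', a, h1, by omega, h3⟩,
      fun i hi => ⟨(hS i hi).1, by have := (hS i hi).2.1; omega, (hS i hi).2.2⟩, ?_⟩
    rw [add_pow_char]
    linear_combination hx
  by_cases hcA : residue B c ∈ Set.range (algebraMap (ResidueField A) (ResidueField B))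
  · obtain ⟨ab, hab⟩ := hcA
    obtain ⟨a, rfl⟩ := residue_surjective ab
    change residue B (algebraMap A B a) = residue B c at hab
    have hau : IsUnit a := by
      by_contra h
      exact hc0 (hab ▸ (residue_eq_zero_iff _).2 (map_nonunit (algebraMap A B) a h))
    obtain ⟨d, hd⟩ := hdvd (c - algebraMap A B a) (by rw [map_sub, hab, sub_self])
    set β := algebraMap A K a / algebraMap A K π ^ n with hβ
    have hβL : algebraMap K L β * t ^ n = algebraMap B L (algebraMap A B a) := by
      rw [hβ, map_div₀, map_pow, ← IsScalarTower.algebraMap_apply, ← IsScalarTower.algebraMap_apply,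
        ← ht, div_mul_cancel₀ _ (pow_ne_zero _ ht0), ← IsScalarTower.algebraMap_apply]
    obtain ⟨y, b₀, α, S, v, m, hα, hS, hx⟩ := ih (n - 1) (by omega) (x - algebraMap K L β) d
      (hstep d _ (by rw [sub_mul, hxc, hβL, ← map_sub, hd]))
    refine ⟨y, b₀, α + β, S, v, m, Or.inr ?_,
      fun i hi => ⟨(hS i hi).1, by have := (hS i hi).2.1; omega, (hS i hi).2.2⟩, ?_⟩
    · have hπK : algebraMap A K π ≠ 0 := (map_ne_zero_iff _ (IsFractionRing.injective A K)).2 hπ.ne_zero
      have hβn : β * algebraMap A K π ^ n = algebraMap A K a := div_mul_cancel₀ _ (pow_ne_zero _ hπK)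
      rcases hα with rfl | ⟨n', a', hn', hle, -, -, ha'⟩
      · exact ⟨n, a, hn, le_rfl, hpn, hau, by rw [zero_add, hβn]⟩
      · refine ⟨n, a + a' * π ^ (n - n'), hn, le_rfl, hpn, ?_, ?_⟩
        · by_contra h
          refine (mem_maximalIdeal a).1 ?_ hau
          have hmem : a' * π ^ (n - n') ∈ maximalIdeal A :=
            Ideal.mul_mem_left _ _ (Ideal.pow_mem_of_mem _ hπ.not_isUnit _ (by omega))
          simpa using sub_mem ((mem_maximalIdeal _).2 h) hmem
        · rw [add_mul, hβn, map_add, map_mul, map_pow, ← ha', mul_assoc, ← pow_add,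
            Nat.add_sub_cancel' (by omega : n' ≤ n), add_comm]
    · rw [map_add]
      linear_combination hx
  obtain ⟨m₀, v₀, hv₀, hnp⟩ := exists_maximal_root hk c hcA
  obtain ⟨d, hd⟩ := hdvd (c - v₀ ^ p ^ m₀) (by rw [map_sub, map_pow, hv₀, sub_self])
  obtain ⟨y, b₀, α, S, v, m, hα, hS, hx⟩ := ih (n - 1) (by omega) (x - algebraMap B L v₀ ^ p ^ m₀ / t ^ n) d
    (hstep d _ (by rw [sub_mul, hxc, div_mul_cancel₀ _ (pow_ne_zero _ ht0), ← map_pow, ← map_sub, hd]))
  have hnS : n ∉ S := fun h => by have := (hS n h).2.1; omega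
  refine ⟨y, b₀, α, insert n S, Function.update v n v₀, Function.update m n m₀,
    hα.imp_right fun ⟨n', a, h1, h2, h3⟩ => ⟨n', a, h1, by omega, h3⟩, fun i hi => ?_, ?_⟩
  · rcases Finset.mem_insert.1 hi with rfl | hi
    · simpa using ⟨hn, hnp, Or.inr hpn⟩
    · have hne : i ≠ n := fun h => hnS (h ▸ hi)
      obtain ⟨h1, h2, h3⟩ := hS i hi
      rw [Function.update_of_ne hne, Function.update_of_ne hne]
      exact ⟨h1, by omega, h3⟩
  · rw [Finset.sum_insert hnS, Function.update_self, Function.update_self,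
      show ∑ i ∈ S, algebraMap B L (Function.update v n v₀ i) ^ p ^ Function.update m n m₀ i / t ^ i =
          ∑ i ∈ S, algebraMap B L (v i) ^ p ^ m i / t ^ i from Finset.sum_congr rfl fun i hi => by
        have hne : i ≠ n := fun h => hnS (h ▸ hi)
        rw [Function.update_of_ne hne, Function.update_of_ne hne]]
    linear_combination hx

end Groth.Agent.ASWeakLib
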