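import Groth.Agent.ASWeakLib.Decompose
import Groth.Agent.ASKumLib.Galois
import Groth.Agent.PInsepStepLib.Main

/-!
# Local computations in the fields generated by Artin–Schreier elements
-/

set_option autoImplicit false
set_option backward.isDefEq.respectTransparency false
set_option linter.style.haveILetI false
set_option linter.unusedSectionVars false
set_option maxHeartbeats 1000000

universe u

open IsLocalRing Polynomial

noncomputable section

namespace Groth.Agent.ASWeakLib

open PInsepStepLib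

variable {B L F : Type u} [CommRing B] [IsDomain B] [IsDiscreteValuationRing B] [Field L] [Algebra B L]
  [IsFractionRing B L] [Field F] [Algebra L F] [Algebra B F] [IsScalarTower B L F] {V : ValuationSubring F}

/-- A power of the value of an algebraic element is a value of the base. -/
theorem exists_pow_eq_zpow (hV : EtRam.Dominates B (algebraMap B F) V) {π : B} (hπ : Irreducible π) {x : F}
    (hx : IsIntegral L x) (hx0 : x ≠ 0) :
    ∃ (e : ℕ) (k : ℤ), 0 < e ∧ V.valuation x ^ e = V.valuation (algebraMap B F π) ^ k := by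
  classical
  set q := minpoly L x with hq
  set n := q.natDegree with hn
  let T : ℕ → F := fun i => algebraMap L F (q.coeff i) * x ^ i
  obtain ⟨i, hi, hmax⟩ := (Finset.range (n + 1)).exists_max_image (fun i => V.valuation (T i))
    ⟨0, Finset.mem_range.2 n.succ_pos⟩
  have hTn : T n = x ^ n := by
    simp only [T, show q.coeff n = 1 from (minpoly.monic hx).coeff_natDegree, map_one, one_mul]
  have hTi : T i ≠ 0 := fun h => by
    have h1 : V.valuation (T n) ≤ V.valuation (T i) := hmax n (Finset.self_mem_range_succ n)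
    rw [h, map_zero, le_zero_iff, map_eq_zero, hTn] at h1
    exact pow_ne_zero _ hx0 h1
  have hsum : ∑ j ∈ Finset.range (n + 1), T j = 0 := by
    refine Eq.trans ?_ (minpoly.aeval L x)
    rw [← hq, aeval_eq_sum_range]
    simp [T, Algebra.smul_def, hn]
  obtain ⟨j, hj, hji, heq⟩ : ∃ j ∈ Finset.range (n + 1), j ≠ i ∧ V.valuation (T j) = V.valuation (T i) := by
    by_contra! hne
    have h1 := Valuation.map_sum_eq_of_lt V.valuation (f := T) hi fun j hj => by
      rw [Finset.mem_sdiff, Finset.mem_singleton] at hj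
      exact lt_of_le_of_ne (hmax j hj.1) (hne j hj.1 hj.2)
    rw [hsum, map_zero, eq_comm, map_eq_zero] at h1
    exact hTi h1
  have key : ∀ (a b : ℕ), a < b → V.valuation (T a) = V.valuation (T b) → T a ≠ 0 →
      ∃ (e : ℕ) (k : ℤ), 0 < e ∧ V.valuation x ^ e = V.valuation (algebraMap B F π) ^ k := by
    intro a b hab h hne
    have hca : q.coeff a ≠ 0 := fun h0 => hne (by simp [T, h0])
    have hTb : T b ≠ 0 := fun h0 => hne ((map_eq_zero V.valuation).1 (by rw [h, h0, map_zero]))
    have hcb : q.coeff b ≠ 0 := fun h0 => hTb (by simp [T, h0])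
    obtain ⟨ka, hka⟩ := val_eq_zpow hV hπ _ hca
    obtain ⟨kb, hkb⟩ := val_eq_zpow hV hπ _ hcb
    refine ⟨b - a, ka - kb, Nat.sub_pos_of_lt hab, ?_⟩
    have hπ0 : V.valuation (algebraMap B F π) ≠ 0 := (val_pos (L := L) hπ.ne_zero).ne'
    simp only [T, map_mul, map_pow, hka, hkb] at h
    rw [zpow_sub₀ hπ0, eq_div_iff (zpow_ne_zero _ hπ0)]
    refine mul_right_cancel₀ (pow_ne_zero a ((_root_.map_ne_zero V.valuation).2 hx0)) ?_
    rw [mul_right_comm, ← pow_add, Nat.sub_add_cancel hab.le, mul_comm, h]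
  rcases lt_or_gt_of_ne hji with h | h
  · exact key j i h heq (fun h0 => hTi ((map_eq_zero V.valuation).1 (by rw [← heq, h0, map_zero])))
  · exact key i j h heq.symm hTi

/-- Without values strictly between a uniformizer and one, the value group is that of the base. -/
theorem val_eq_zpow_of_max [FiniteDimensional L F] (hV : EtRam.Dominates B (algebraMap B F) V) {π : B}
    (hπ : Irreducible π) (hmax : ∀ x : F, V.valuation x < 1 → V.valuation x ≤ V.valuation (algebraMap B F π))
    (x : F) (hx0 : x ≠ 0) : ∃ k : ℤ, V.valuation x = V.valuation (algebraMap B F π) ^ k := by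
  obtain ⟨e, k, he, hek⟩ := exists_pow_eq_zpow (L := L) hV hπ (Algebra.IsIntegral.isIntegral x) hx0
  set c := V.valuation (algebraMap B F π) with hc
  have hc0 : 0 < c := val_pos (L := L) hπ.ne_zero
  have hc1 : c < 1 := hV.2 π hπ.not_isUnit
  set y := x / algebraMap B F π ^ (k / (e : ℤ)) with hy
  have hyv : V.valuation y = V.valuation x / c ^ (k / (e : ℤ)) := by rw [hy, map_div₀, map_zpow₀]
  have hye : V.valuation y ^ e = c ^ (k % (e : ℤ)) := by
    rw [hyv, div_pow, hek, ← zpow_natCast (c ^ (k / (e : ℤ))), ← zpow_mul, ← zpow_sub₀ hc0.ne']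
    congr 1
    rw [Int.emod_def, mul_comm]
  have hr0 : (0 : ℤ) ≤ k % (e : ℤ) := Int.emod_nonneg _ (by omega)
  have hre : k % (e : ℤ) < e := Int.emod_lt_of_pos _ (by omega)
  have hr : k % (e : ℤ) = 0 := by
    by_contra hne
    have hlt : V.valuation y ^ e < 1 := by
      rw [hye]
      exact (zpow_right_strictAnti₀ hc0 hc1 (show (0 : ℤ) < k % (e : ℤ) by omega)).trans_eq (zpow_zero c)
    have hy1 : V.valuation y < 1 := lt_of_not_ge fun h => absurd hlt (not_lt.2 (one_le_pow_of_one_le' h e))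
    have h2 : c ^ (k % (e : ℤ)) ≤ c ^ (e : ℤ) := by
      rw [← hye, zpow_natCast]
      exact pow_le_pow_left' (hmax y hy1) e
    exact absurd h2 (not_le.2 (zpow_right_strictAnti₀ hc0 hc1 hre))
  rw [hr, zpow_zero] at hye
  replace hye : V.valuation y = 1 := by
    rcases lt_trichotomy (V.valuation y) 1 with h | h | h
    · exact absurd hye (pow_lt_one₀ zero_le' h he.ne').ne
    · exact h
    · exact absurd hye (one_lt_pow₀ h he.ne').ne'
  refine ⟨k / (e : ℤ), ?_⟩
  rw [hyv, div_eq_one_iff_eq (zpow_ne_zero _ hc0.ne')] at hye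
  exact hye

/-- The valuation ring is then a discrete valuation ring. -/
theorem isDVR_of_max [FiniteDimensional L F] (hV : EtRam.Dominates B (algebraMap B F) V) {π : B}
    (hπ : Irreducible π) (hmax : ∀ x : F, V.valuation x < 1 → V.valuation x ≤ V.valuation (algebraMap B F π)) :
    IsDiscreteValuationRing V ∧ Irreducible (⟨algebraMap B F π, hV.1 π⟩ : V) := by
  set c := V.valuation (algebraMap B F π) with hc
  have hc0 : 0 < c := val_pos (L := L) hπ.ne_zero
  have hc1 : c < 1 := hV.2 π hπ.not_isUnit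
  let ϖ : V := ⟨algebraMap B F π, hV.1 π⟩
  have hirr : Irreducible ϖ := by
    refine ⟨fun hu => hc1.ne ((V.valuation_eq_one_iff ϖ).1 hu), fun a b hab => ?_⟩
    by_contra! h
    have ha : V.valuation (a : F) ≤ c := hmax _ ((V.valuation_lt_one_iff a).1 ((mem_maximalIdeal _).2 h.1))
    have hb : V.valuation (b : F) ≤ c := hmax _ ((V.valuation_lt_one_iff b).1 ((mem_maximalIdeal _).2 h.2))
    have h1 : c = V.valuation (a : F) * V.valuation (b : F) := by
      rw [← map_mul]; exact congrArg (fun w : V => V.valuation (w : F)) hab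
    exact absurd (h1.trans_le (mul_le_mul' ha hb)) (not_le.2 (mul_lt_of_lt_one_left hc0 hc1))
  refine ⟨IsDiscreteValuationRing.ofHasUnitMulPowIrreducibleFactorization ⟨ϖ, hirr, fun {x} hx => ?_⟩, hirr⟩
  have hxF : (x : F) ≠ 0 := fun h => hx (Subtype.ext h)
  obtain ⟨k, hk⟩ := val_eq_zpow_of_max (L := L) hV hπ hmax _ hxF
  have hk0 : 0 ≤ k := by
    by_contra! hneg
    have h1 : c ^ (0 : ℤ) < c ^ k := zpow_right_strictAnti₀ hc0 hc1 hneg
    rw [zpow_zero, ← hk] at h1
    exact not_lt.2 ((V.valuation_le_one_iff _).2 x.2) h1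
  lift k to ℕ using hk0
  rw [zpow_natCast] at hk
  have hq : (x : F) / algebraMap B F π ^ k ∈ V := (V.valuation_le_one_iff _).1 (by
    rw [map_div₀, map_pow, hk, div_self (pow_ne_zero _ hc0.ne')])
  have hu : IsUnit (⟨_, hq⟩ : V) := (V.valuation_eq_one_iff _).2 (by
    show V.valuation ((x : F) / algebraMap B F π ^ k) = 1
    rw [map_div₀, map_pow, hk, div_self (pow_ne_zero _ hc0.ne')])
  refine ⟨k, hu.unit, Subtype.ext ?_⟩
  show algebraMap B F π ^ k * ((x : F) / algebraMap B F π ^ k) = x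
  exact mul_div_cancel₀ _ (pow_ne_zero _ (algebraMap_ne_zero (L := L) hπ.ne_zero))

theorem le_pi_of_root [FiniteDimensional L F] {p : ℕ} [Fact p.Prime] [CharP L p]
    (hV : EtRam.Dominates B (algebraMap B F) V) {π : B} (hπ : Irreducible π) {w : F} {b₀ : B}
    (hw : w ^ p - w = algebraMap B F b₀) (hgen : IntermediateField.adjoin L {w} = ⊤) (x : F)
    (hx : V.valuation x < 1) : V.valuation x ≤ V.valuation (algebraMap B F π) := by
  have hp : p.Prime := Fact.out
  haveI : CharP B p := (RingHom.charP_iff (algebraMap B L) (IsFractionRing.injective B L) p).2 inferInstance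
  let f : B[X] := X ^ p - X - C b₀
  have hXdeg : (X : B[X]).degree < (X ^ p : B[X]).degree := by
    rw [degree_X, degree_X_pow]; exact_mod_cast hp.one_lt
  have hf : f.Monic := ((monic_X_pow p).sub_of_left hXdeg).sub_of_left (by
    rw [degree_sub_eq_left_of_degree_lt hXdeg, degree_X_pow]
    exact lt_of_le_of_lt degree_C_le (by exact_mod_cast hp.pos))
  have hder : derivative f - C (((-1 : Bˣ) : B)) = 0 := by simp [f, derivative_X_pow, CharP.cast_eq_zero]
  letI : Algebra B V := (RingHom.codRestrict (algebraMap B F) V hV.1).toAlgebra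
  haveI hloc : IsLocalHom (algebraMap B V) := ⟨fun r hr => by
    by_contra hnu
    exact (V.valuation_lt_one_iff (algebraMap B V r)).2 (hV.2 r hnu) hr⟩
  have h := (ASKumLib.unramified_of_root (K := L) f hf w (by simp [f, hw]) (-1)
    (fun n => by rw [hder, coeff_zero]; exact Ideal.zero_mem _) hgen V hV).1
  rw [EtRam.IsWeaklyUnramified, hπ.maximalIdeal_eq, Ideal.map_span, Set.image_singleton] at h
  have hxV : x ∈ V := (V.valuation_le_one_iff x).1 hx.le
  have hmem : (⟨x, hxV⟩ : V) ∈ maximalIdeal V := (V.valuation_lt_one_iff _).2 hx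
  rw [← h, Ideal.mem_span_singleton] at hmem
  obtain ⟨d, hd⟩ := hmem
  have hd' : x = algebraMap B F π * (d : F) := congrArg Subtype.val hd
  rw [hd', map_mul]
  exact mul_le_of_le_one_right' ((V.valuation_le_one_iff _).2 d.2)

theorem telescope {p : ℕ} [Fact p.Prime] [CharP F p] (s : F) : ∀ m : ℕ, ∃ Y : F, s ^ p ^ m = Y ^ p - Y + s
  | 0 => ⟨0, by simp [(Fact.out : p.Prime).ne_zero]⟩
  | m + 1 => by
    obtain ⟨Y, hY⟩ := telescope s m
    refine ⟨Y + s ^ p ^ m, ?_⟩
    rw [add_pow_char, ← pow_mul, ← pow_succ]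
    linear_combination hY

section Wild

variable {p : ℕ} [Fact p.Prime] [CharP F p] {π : B} {θ : F} {N J : ℕ}

include L

/-- The basic replacement of a uniformizer of the base. -/
theorem reduce_term (hV : EtRam.Dominates B (algebraMap B F) V) (hπ : Irreducible π)
    (hθ : θ ^ p ^ N = algebraMap B F π * (1 + algebraMap B F π ^ J * θ)) (u : F) (hu : V.valuation u ≤ 1)
    {i m : ℕ} (hi : i ≤ J) (hm : m ≤ N) :
    ∃ Y η : F, u ^ p ^ m / algebraMap B F π ^ i = Y ^ p - Y + u / θ ^ (i * p ^ (N - m)) + η ∧ V.valuation η ≤ 1 := by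
  have hp : p.Prime := Fact.out
  set t := algebraMap B F π with ht
  have ht0 : t ≠ 0 := algebraMap_ne_zero (L := L) hπ.ne_zero
  obtain ⟨hδ, hvθ⟩ := root_valuation (pow_pos hp.pos N) (hV.2 π hπ.not_isUnit) ht0 J hθ
  set δ := t ^ J * θ with hδdef
  have hθ1 : V.valuation θ < 1 := theta_lt_one hV hπ hvθ
  have hθ0 : θ ≠ 0 := fun h => by
    have := (theta_pos (L := L) (pow_pos hp.pos N) hπ hvθ).ne'
    rw [h, map_zero] at this
    exact this rfl
  obtain ⟨Y, hY⟩ := telescope (p := p) (u / θ ^ (i * p ^ (N - m))) m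
  refine ⟨Y, u ^ p ^ m / t ^ i - (u / θ ^ (i * p ^ (N - m))) ^ p ^ m, by linear_combination hY, ?_⟩
  have hpow : (θ ^ (i * p ^ (N - m))) ^ p ^ m = t ^ i * (1 + δ) ^ i := by
    rw [← pow_mul, mul_assoc, ← pow_add, Nat.sub_add_cancel hm, mul_comm i, pow_mul, hθ, mul_pow]
  have hd0 : (1 + δ) ≠ 0 := fun h => by
    have := Valuation.map_add_eq_of_lt_left V.valuation (y := δ) (x := (1 : F)) (by rw [map_one]; exact hδ)
    rw [h, map_zero, map_one] at this
    exact zero_ne_one this
  have hD : V.valuation ((1 + δ) ^ i) = 1 := by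
    rw [map_pow, Valuation.map_add_eq_of_lt_left V.valuation (by rw [map_one]; exact hδ), map_one, one_pow]
  have heq : u ^ p ^ m / t ^ i - (u / θ ^ (i * p ^ (N - m))) ^ p ^ m =
      u ^ p ^ m * ((((1 + δ) ^ i - 1) / t ^ i) / (1 + δ) ^ i) := by
    rw [div_pow, hpow]
    field_simp
  rw [heq, map_mul, map_pow, map_div₀, hD, div_one]
  refine mul_le_one' (pow_le_one₀ zero_le' hu) ?_
  set k := ∑ j ∈ Finset.range i, (1 + δ) ^ j with hkdef
  have hk : (1 + δ) ^ i - 1 = t ^ J * θ * k := by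
    rw [← geom_sum_mul, ← hkdef, hδdef]
    ring
  have hkV : V.valuation k ≤ 1 := by
    exact Valuation.map_sum_le _ fun j _ => by
      rw [map_pow, Valuation.map_add_eq_of_lt_left V.valuation (by rw [map_one]; exact hδ), map_one, one_pow]
  rw [hk, show t ^ J * θ * k / t ^ i = t ^ (J - i) * θ * k by
    rw [← Nat.sub_add_cancel hi, pow_add, Nat.add_sub_cancel]; field_simp]
  rw [map_mul, map_mul, map_pow]
  exact mul_le_one' (mul_le_one' (pow_le_one₀ zero_le' (val_le_one hV π)) hθ1.le) hkV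

/-- The part coming from the base has a pole of bounded order. -/
theorem reduce_low {A : Type u} [CommRing A] [Algebra A B] [Algebra A F] [IsScalarTower A B F] {ϖ : A}
    (hϖ : algebraMap A B ϖ = π) (hroot : ∀ a : A, ∃ r d : A, a = r ^ p ^ N + ϖ * d)
    (hV : EtRam.Dominates B (algebraMap B F) V) (hπ : Irreducible π)
    (hθ : θ ^ p ^ N = algebraMap B F π * (1 + algebraMap B F π ^ J * θ)) :
    ∀ n : ℕ, n ≤ J → ∀ (x : F) (a : A), x * algebraMap B F π ^ n = algebraMap A F a →
      ∃ Y η : F, x = Y ^ p - Y + η ∧ V.valuation η * V.valuation θ ^ n ≤ 1 := by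
  have hp : p.Prime := Fact.out
  set t := algebraMap B F π with ht
  have ht0 : t ≠ 0 := algebraMap_ne_zero (L := L) hπ.ne_zero
  obtain ⟨-, hvθ⟩ := root_valuation (pow_pos hp.pos N) (hV.2 π hπ.not_isUnit) ht0 J hθ
  have hθ1 : V.valuation θ ≤ 1 := (theta_lt_one hV hπ hvθ).le
  have hθ0 : θ ≠ 0 := fun h => by
    have := (theta_pos (L := L) (pow_pos hp.pos N) hπ hvθ).ne'
    rw [h, map_zero] at this
    exact this rfl
  have hA : ∀ a : A, V.valuation (algebraMap A F a) ≤ 1 := fun a => by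
    rw [IsScalarTower.algebraMap_apply A B F]; exact val_le_one hV _
  intro n
  induction n with
  | zero =>
    intro _ x a hx
    refine ⟨0, x, by simp [hp.ne_zero], ?_⟩
    rw [pow_zero, mul_one] at hx
    rw [pow_zero, mul_one, hx]
    exact hA a
  | succ n ih =>
    intro hn x a hx
    obtain ⟨r, d, rfl⟩ := hroot a
    have hrest : (x - algebraMap A F r ^ p ^ N / t ^ (n + 1)) * t ^ n = algebraMap A F d := by
      refine mul_right_cancel₀ ht0 ?_
      rw [mul_assoc, ← pow_succ, sub_mul, hx, div_mul_cancel₀ _ (pow_ne_zero _ ht0), map_add, map_mul, map_pow,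
        IsScalarTower.algebraMap_apply A B F ϖ, hϖ, ← ht]
      ring
    obtain ⟨Y, η, hY, hη⟩ := ih (by omega) _ d hrest
    obtain ⟨Y', η', hY', hη'⟩ := reduce_term (L := L) hV hπ hθ (algebraMap A F r) (hA r) hn le_rfl
    rw [Nat.sub_self, pow_zero, mul_one] at hY'
    refine ⟨Y + Y', η + (algebraMap A F r / θ ^ (n + 1) + η'), ?_, ?_⟩
    · rw [add_pow_char]
      linear_combination hY + hY'
    · rw [← map_pow, ← map_mul, add_mul, add_mul, div_mul_cancel₀ _ (pow_ne_zero _ hθ0)]
      refine Valuation.map_add_le _ ?_ (Valuation.map_add_le _ (hA r) ?_)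
      · rw [map_mul, pow_succ, map_mul, map_pow, ← mul_assoc]
        exact mul_le_one' hη hθ1
      · rw [map_mul, map_pow]
        exact mul_le_one' hη' (pow_le_one₀ zero_le' hθ1)

/-- The residually inseparable element. -/
theorem exists_resIndep {A : Type u} [CommRing A] [Algebra A B] [Algebra A F] [IsScalarTower A B F] {ϖ : A}
    (hϖ : algebraMap A B ϖ = π) (hroot : ∀ a : A, ∃ r d : A, a = r ^ p ^ N + ϖ * d)
    (hV : EtRam.Dominates B (algebraMap B F) V) (hπ : Irreducible π)
    (hθ : θ ^ p ^ N = algebraMap B F π * (1 + algebraMap B F π ^ J * θ))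
    (S : Finset ℕ) (hS0 : S.Nonempty) (v : ℕ → B) (m : ℕ → ℕ)
    (hS : ∀ i ∈ S, 1 ≤ i ∧ i ≤ J ∧ m i + J + 1 ≤ N ∧
      (∀ r : B, residue B (v i) ≠ residue B r ^ p) ∧ (m i = 0 ∨ ¬ p ∣ i))
    (Z x : F) (b₀ : B) (a : A) (hx : x * algebraMap B F π ^ J = algebraMap A F a)
    (hZ : Z ^ p - Z = algebraMap B F b₀ + x + ∑ i ∈ S, algebraMap B F (v i) ^ p ^ m i / algebraMap B F π ^ i) :
    ∃ z : F, ResIndep B V fun l : Fin p => z ^ (l : ℕ) := by
  classical
  have hp : p.Prime := Fact.out
  set t := algebraMap B F π with ht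
  have ht0 : t ≠ 0 := algebraMap_ne_zero (L := L) hπ.ne_zero
  obtain ⟨-, hvθ⟩ := root_valuation (pow_pos hp.pos N) (hV.2 π hπ.not_isUnit) ht0 J hθ
  have hθ1 : V.valuation θ < 1 := theta_lt_one hV hπ hvθ
  have hθpos : 0 < V.valuation θ := theta_pos (L := L) (pow_pos hp.pos N) hπ hvθ
  have hθ0 : θ ≠ 0 := fun h => by
    have := hθpos.ne'
    rw [h, map_zero] at this
    exact this rfl
  let q : ℕ → ℕ := fun i => i * p ^ (N - m i)
  have hred : ∀ i ∈ S, ∃ Y η : F, algebraMap B F (v i) ^ p ^ m i / t ^ i =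
      Y ^ p - Y + algebraMap B F (v i) / θ ^ q i + η ∧ V.valuation η ≤ 1 := fun i hi =>
    reduce_term (L := L) hV hπ hθ _ (val_le_one hV _) (hS i hi).2.1 (by have := (hS i hi).2.2.1; omega)
  choose! Y η hY hη using hred
  obtain ⟨Y₀, η₀, hY₀, hη₀⟩ := reduce_low (L := L) hϖ hroot hV hπ hθ J le_rfl x a hx
  obtain ⟨i₀, hi₀, hmax⟩ := S.exists_max_image q hS0
  have hqJ : J < q i₀ := by
    obtain ⟨h1, -, h3, -⟩ := hS i₀ hi₀
    calc J < p ^ J := Nat.lt_pow_self hp.one_lt
      _ ≤ p ^ (N - m i₀) := Nat.pow_le_pow_right hp.pos (by omega)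
      _ ≤ q i₀ := Nat.le_mul_of_pos_left _ h1
  obtain ⟨r, hr⟩ : p ∣ q i₀ := by
    obtain ⟨-, -, h3, -⟩ := hS i₀ hi₀
    exact dvd_mul_of_dvd_right (dvd_pow_self p (by omega)) _
  have hdist : ∀ i ∈ S, i ≠ i₀ → q i < q i₀ := by
    intro i hi hne
    refine lt_of_le_of_ne (hmax i hi) fun heq => hne ?_
    obtain ⟨hi1, -, hm1, -, hor⟩ := hS i hi
    obtain ⟨hj1, -, hm2, -, hor'⟩ := hS i₀ hi₀
    have key : ∀ a b ma mb : ℕ, ma ≤ N → mb ≤ N → (mb = 0 ∨ ¬ p ∣ b) → a * p ^ (N - ma) = b * p ^ (N - mb) →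
        ma ≤ mb → a = b := by
      intro a b ma mb ha hb horb h hle
      have h' : a * p ^ (mb - ma) = b := by
        refine Nat.eq_of_mul_eq_mul_right (pow_pos hp.pos (N - mb)) ?_
        rw [mul_assoc, ← pow_add, show mb - ma + (N - mb) = N - ma by omega, h]
      rcases Nat.eq_zero_or_pos (mb - ma) with h0 | h0
      · rw [h0, pow_zero, mul_one] at h'; exact h'
      · rcases horb with h1 | h1
        · omega
        · exact absurd (h' ▸ dvd_mul_of_dvd_right (dvd_pow_self p h0.ne') a) h1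
    rcases le_total (m i) (m i₀) with h | h
    · exact key i i₀ _ _ (by omega) (by omega) hor' heq h
    · exact (key i₀ i _ _ (by omega) (by omega) hor heq.symm h).symm
  set Z' := Z - (Y₀ + ∑ i ∈ S, Y i) with hZ'
  set E := algebraMap B F b₀ + η₀ + ∑ i ∈ S, (algebraMap B F (v i) / θ ^ q i + η i) with hE
  have hZE : Z' ^ p - Z' = E := by
    have h1 : ∑ i ∈ S, algebraMap B F (v i) ^ p ^ m i / t ^ i =
        ∑ i ∈ S, Y i ^ p - ∑ i ∈ S, Y i + ∑ i ∈ S, (algebraMap B F (v i) / θ ^ q i + η i) := by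
      rw [← Finset.sum_sub_distrib, ← Finset.sum_add_distrib]
      exact Finset.sum_congr rfl fun i hi => by rw [hY i hi]; ring
    rw [hZ', sub_pow_char, add_pow_char, sum_pow_char, hE]
    linear_combination hZ + hY₀ + h1
  have hlead : V.valuation (E * θ ^ q i₀ - algebraMap B F (v i₀)) < 1 := by
    have hexp : E * θ ^ q i₀ - algebraMap B F (v i₀) = algebraMap B F b₀ * θ ^ q i₀ + η₀ * θ ^ q i₀ +
        η i₀ * θ ^ q i₀ + ∑ i ∈ S \ {i₀}, (algebraMap B F (v i) / θ ^ q i + η i) * θ ^ q i₀ := by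
      rw [hE, add_mul, add_mul, Finset.sum_mul, Finset.sum_eq_add_sum_sdiff_singleton_of_mem hi₀,
        add_mul _ (η i₀), div_mul_cancel₀ _ (pow_ne_zero _ hθ0)]
      ring
    rw [hexp]
    have hq1 : V.valuation (θ ^ q i₀) < 1 := by
      rw [map_pow]; exact pow_lt_one₀ zero_le' hθ1 (by omega)
    refine V.valuation.map_add_lt (V.valuation.map_add_lt (V.valuation.map_add_lt ?_ ?_) ?_) ?_
    · rw [map_mul]; exact lt_of_le_of_lt (mul_le_of_le_one_left' (val_le_one hV _)) hq1
    · rw [map_mul, map_pow, show q i₀ = J + (q i₀ - J) by omega, pow_add, ← mul_assoc]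
      exact lt_of_le_of_lt (mul_le_of_le_one_left' hη₀) (pow_lt_one₀ zero_le' hθ1 (by omega))
    · rw [map_mul]; exact lt_of_le_of_lt (mul_le_of_le_one_left' (hη i₀ hi₀)) hq1
    · refine V.valuation.map_sum_lt one_ne_zero fun i hi => ?_
      rw [Finset.mem_sdiff, Finset.mem_singleton] at hi
      have hlt := hdist i hi.1 hi.2
      rw [add_mul]
      refine V.valuation.map_add_lt ?_ ?_
      · rw [show algebraMap B F (v i) / θ ^ q i * θ ^ q i₀ = algebraMap B F (v i) * θ ^ (q i₀ - q i) by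
          rw [← Nat.sub_add_cancel hlt.le, pow_add, Nat.add_sub_cancel]; field_simp, map_mul, map_pow]
        exact lt_of_le_of_lt (mul_le_of_le_one_left' (val_le_one hV _)) (pow_lt_one₀ zero_le' hθ1 (by omega))
      · rw [map_mul]; exact lt_of_le_of_lt (mul_le_of_le_one_left' (hη i hi.1)) hq1
  have hsmall : V.valuation (Z' * θ ^ q i₀) < 1 := by
    rcases le_or_gt (V.valuation Z') 1 with h | h
    · rw [map_mul, map_pow]
      exact lt_of_le_of_lt (mul_le_of_le_one_left' h) (pow_lt_one₀ zero_le' hθ1 (by omega))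
    · have hEval : V.valuation E = V.valuation Z' ^ p := by
        rw [← hZE, Valuation.map_sub_eq_of_lt_left, map_pow]
        rw [map_pow]
        exact lt_self_pow₀ h hp.one_lt
      have h1 : V.valuation (Z' * θ ^ r) ^ p ≤ 1 := by
        rw [← map_pow, mul_pow, ← pow_mul, mul_comm r p, ← hr, map_mul, map_pow, ← hEval, ← map_mul]
        have := Valuation.map_add_le V.valuation hlead.le (val_le_one hV (v i₀))
        rwa [sub_add_cancel] at this
      have h2 : V.valuation (Z' * θ ^ r) ≤ 1 := le_of_not_gt fun h' => absurd h1 (not_le.2 (one_lt_pow₀ h' hp.ne_zero))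
      have hrq : r < q i₀ := by
        have : 1 * r < p * r := Nat.mul_lt_mul_of_pos_right hp.one_lt (Nat.pos_of_ne_zero fun h0 => by
          rw [h0, mul_zero] at hr; omega)
        omega
      rw [show q i₀ = r + (q i₀ - r) by omega, pow_add, ← mul_assoc, map_mul, map_pow]
      exact lt_of_le_of_lt (mul_le_of_le_one_left' h2) (pow_lt_one₀ zero_le' hθ1 (by omega))
  refine ⟨Z' * θ ^ r, resIndep_pow hV hp (v i₀) (hS i₀ hi₀).2.2.2.1 _ ?_⟩
  rw [show (Z' * θ ^ r) ^ p - algebraMap B F (v i₀) = (E * θ ^ q i₀ - algebraMap B F (v i₀)) + Z' * θ ^ q i₀ by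
    rw [← hZE, mul_pow, ← pow_mul, mul_comm r p, ← hr]; ring]
  exact V.valuation.map_add_lt hlead hsmall

end Wild

end Groth.Agent.ASWeakLib
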