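import Groth.Agent.ASWeakLib.Local
import Groth.Agent.PInsepStepLib.Step

/-!
# A separable totally ramified weak solution for a cyclic extension of degree `p` in characteristic `p`
-/

set_option autoImplicit false
set_option backward.isDefEq.respectTransparency false
set_option linter.style.haveILetI false
set_option linter.unusedSectionVars false
set_option maxHeartbeats 2000000
set_option synthInstance.maxHeartbeats 100000

universe u

open IsLocalRing Polynomial

noncomputable section

namespace Groth.Agent.ASWeakLib

open PInsepStepLib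

theorem root_field {K : Type u} [Field K] (f : K[X]) (hf : f.Monic) (hdeg : f.natDegree ≠ 0) (hsep : f.Separable) :
    ∃ (K₁ : Type u) (_ : Field K₁) (_ : Algebra K K₁) (t : K₁), FiniteDimensional K K₁ ∧ Algebra.IsSeparable K K₁ ∧
      Algebra.adjoin K {t} = ⊤ ∧ aeval t f = 0 ∧ Module.finrank K K₁ ≤ f.natDegree := by
  obtain ⟨θ, hθ⟩ := IsAlgClosed.exists_aeval_eq_zero (AlgebraicClosure K) f (by
    rw [degree_eq_natDegree hf.ne_zero]; exact_mod_cast hdeg)
  have hint : IsIntegral K θ := ⟨f, hf, by simpa [aeval_def] using hθ⟩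
  let K₁ := IntermediateField.adjoin K ({θ} : Set (AlgebraicClosure K))
  let t : K₁ := ⟨θ, IntermediateField.mem_adjoin_simple_self K θ⟩
  haveI : FiniteDimensional K K₁ := IntermediateField.adjoin.finiteDimensional hint
  refine ⟨K₁, inferInstance, inferInstance, t, inferInstance,
    (IntermediateField.isSeparable_adjoin_simple_iff_isSeparable K _).2 (hsep.of_dvd (minpoly.dvd K θ hθ)),
    (IntermediateField.adjoin.powerBasis hint).adjoin_gen_eq_top,
    Subtype.ext ((aeval_algHom_apply K₁.val t f).symm.trans hθ), ?_⟩
  rw [IntermediateField.adjoin.finrank hint]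
  exact natDegree_le_of_dvd (minpoly.dvd K θ hθ) hf.ne_zero

variable {A B C K L M : Type u}
    [CommRing A] [IsDomain A] [IsDiscreteValuationRing A] [CommRing B] [IsDomain B] [IsDiscreteValuationRing B]
    [CommRing C] [IsDomain C] [IsDiscreteValuationRing C]
    [Algebra A B] [Algebra B C] [Algebra A C] [IsScalarTower A B C]
    [IsLocalHom (algebraMap A B)] [IsLocalHom (algebraMap B C)]
    [Field K] [Field L] [Field M] [Algebra A K] [IsFractionRing A K] [Algebra B L] [IsFractionRing B L]
    [Algebra C M] [IsFractionRing C M] [Algebra K L] [Algebra L M] [Algebra K M] [IsScalarTower K L M]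
    [Algebra A L] [IsScalarTower A K L] [IsScalarTower A B L] [Algebra B M] [IsScalarTower B L M] [IsScalarTower B C M]
    [Algebra A M] [IsScalarTower A K M] [IsScalarTower A C M]

section Gen

variable {K₁ F : Type u} [Field K₁] [Field F] [Algebra K K₁] [Algebra K F] [Algebra L F] [Algebra M F] [Algebra K₁ F]
  [IsScalarTower K L F] [IsScalarTower L M F] [IsScalarTower K K₁ F]

omit [IsLocalHom (algebraMap A B)] in
theorem eq_top_of_generated (G : IntermediateField L F) {z : M} (hgenM : IntermediateField.adjoin L {z} = ⊤)
    (hz : algebraMap M F z ∈ G) {t : K₁} (htop : Algebra.adjoin K {t} = ⊤) (ht : algebraMap K₁ F t ∈ G)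
    (hgen : Algebra.adjoin M (Set.range (algebraMap K₁ F)) = ⊤) : G = ⊤ := by
  have hM : ∀ x : M, algebraMap M F x ∈ G := fun x => by
    have h : (IntermediateField.adjoin L {z}).map (IsScalarTower.toAlgHom L M F) ≤ G := by
      rw [IntermediateField.adjoin_map, IntermediateField.adjoin_le_iff]
      rintro _ ⟨w, hw, rfl⟩
      rw [Set.mem_singleton_iff.1 hw]
      exact hz
    exact h ⟨x, hgenM ▸ IntermediateField.mem_top, rfl⟩
  refine eq_top_iff.2 ?_
  rintro x -
  have hx : x ∈ Algebra.adjoin M (Set.range (algebraMap K₁ F)) := hgen ▸ Algebra.mem_top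
  induction hx using Algebra.adjoin_induction with
  | mem x hx =>
    obtain ⟨y, rfl⟩ := hx
    obtain ⟨q, rfl⟩ := (Algebra.adjoin_singleton_eq_range_aeval K t ▸ htop ▸ Algebra.mem_top :
      y ∈ (aeval t : K[X] →ₐ[K] K₁).range)
    show algebraMap K₁ F (aeval t q) ∈ G
    rw [← aeval_algebraMap_apply, ← aeval_map_algebraMap L]
    exact IntermediateField.adjoin_simple_le_iff.2 ht
      (IntermediateField.algebra_adjoin_le_adjoin L _ (aeval_mem_adjoin_singleton L _))
  | algebraMap r => exact hM r
  | add x y _ _ hx hy => exact add_mem hx hy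
  | mul x y _ _ hx hy => exact mul_mem hx hy

end Gen

set_option maxHeartbeats 4000000 in
include C M in
theorem exists_weakSolution {p : ℕ} [Fact p.Prime] [CharP K p] [IsGalois L M] (hdeg : Module.finrank L M = p)
    (hw : EtRam.IsWeaklyUnramified A B)
    (hk : ∀ x : ResidueField B, (∀ n : ℕ, ∃ y : ResidueField B, y ^ (p ^ n) = x) ↔
      x ∈ Set.range (algebraMap (ResidueField A) (ResidueField B))) :
    ∃ (K₁ : Type u) (_ : Field K₁) (_ : Algebra K K₁), FiniteDimensional K K₁ ∧ Algebra.IsSeparable K K₁ ∧
      EtRam.IsTotallyRamified A ((algebraMap K K₁).comp (algebraMap A K)) ∧ EtRam.IsWeakSolution C K M K₁ := by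
  classical
  have hp : p.Prime := Fact.out
  haveI : CharP L p := charP_of_injective_algebraMap (algebraMap K L).injective p
  haveI : CharP M p := charP_of_injective_algebraMap (algebraMap L M).injective p
  haveI : CharP (ResidueField B) p := charP_residueField (IsFractionRing.injective B L)
  haveI : FiniteDimensional L M := Module.finite_of_finrank_pos (hdeg ▸ hp.pos)
  obtain ⟨π, hπ⟩ := IsDiscreteValuationRing.exists_irreducible A
  have hπB : Irreducible (algebraMap A B π) := (IsDiscreteValuationRing.irreducible_iff_uniformizer _).2 (by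
    have h := hw
    rw [EtRam.IsWeaklyUnramified, hπ.maximalIdeal_eq, Ideal.map_span, Set.image_singleton] at h
    exact h.symm)
  set πB := algebraMap A B π with hπBdef
  obtain ⟨z, ξ, hz, hgenM⟩ := exists_generator (L := L) (M := M) hdeg
  obtain ⟨n, c, hc⟩ : ∃ (n : ℕ) (c : B), ξ * algebraMap A L π ^ n = algebraMap B L c := by
    obtain ⟨⟨c, d⟩, hcd⟩ := IsLocalization.surj (nonZeroDivisors B) ξ
    obtain ⟨n, u, hdu⟩ := IsDiscreteValuationRing.eq_unit_mul_pow_irreducible (nonZeroDivisors.ne_zero d.2) hπB
    refine ⟨n, c * ↑u⁻¹, ?_⟩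
    simp only [hdu, map_mul, map_pow] at hcd
    have h3 : algebraMap B L ↑u * algebraMap B L ↑u⁻¹ = 1 := by rw [← map_mul, Units.mul_inv, map_one]
    rw [map_mul, ← hcd, IsScalarTower.algebraMap_apply A B L]
    linear_combination (-ξ * algebraMap B L πB ^ n) * h3
  obtain ⟨y, b₀, α, S, v, m, hα, hS, hx⟩ := decompose (K := K) hk hπ hπB n ξ c hc
  set w₀ := z - algebraMap L M y with hw₀
  have hw₀eq : w₀ ^ p - w₀ = algebraMap L M (algebraMap B L b₀ + algebraMap K L α +
      ∑ i ∈ S, algebraMap B L (v i) ^ p ^ m i / algebraMap A L π ^ i) := by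
    rw [hw₀, sub_pow_char]
    have h := congrArg (algebraMap L M) hx
    rw [map_add, map_add, map_add, map_sub, map_pow] at h
    rw [map_add, map_add]
    linear_combination hz + h
  have hgen₀ : IntermediateField.adjoin L {w₀} = ⊤ := by
    refine eq_top_iff.2 (hgenM ▸ IntermediateField.adjoin_le_iff.2 ?_)
    intro w hw'
    rw [Set.mem_singleton_iff.1 hw']
    simpa [hw₀] using add_mem (IntermediateField.mem_adjoin_simple_self L w₀)
      ((IntermediateField.adjoin L {w₀}).algebraMap_mem y)
  -- the structure on a compositum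
  by_cases hS0 : S.Nonempty
  · -- residually inseparable case
    set N := S.sup m + n + 1 with hN
    set P := p ^ N with hP
    have hP1 : 1 < P := Nat.one_lt_pow (by omega) hp.one_lt
    let s : K := algebraMap A K π
    have hs0 : s ≠ 0 := (map_ne_zero_iff _ (IsFractionRing.injective A K)).2 hπ.ne_zero
    let f : K[X] := X ^ P - (Polynomial.C (s ^ (n + 1)) * X + Polynomial.C s)
    have hlin : (Polynomial.C (s ^ (n + 1)) * X + Polynomial.C s).degree < ((P : ℕ) : WithBot ℕ) :=
      lt_of_le_of_lt degree_linear_le (by exact_mod_cast hP1)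
    have hf : f.Monic := (monic_X_pow P).sub_of_left (by rwa [degree_X_pow])
    have hfdeg : f.natDegree = P := by
      rw [natDegree_eq_of_degree_eq (degree_sub_eq_left_of_degree_lt (by rwa [degree_X_pow])), natDegree_X_pow]
    have hfsep : f.Separable := by
      rw [Polynomial.separable_def, show derivative f = Polynomial.C (-(s ^ (n + 1))) by
        simp [f, derivative_X_pow, CharP.cast_eq_zero, derivative_pow, hP, Nat.cast_pow, zero_pow (show N ≠ 0 by omega)]]
      exact IsCoprime.symm ⟨Polynomial.C (-(s ^ (n + 1)))⁻¹, 0, by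
        rw [zero_mul, add_zero, ← map_mul, inv_mul_cancel₀ (neg_ne_zero.2 (pow_ne_zero _ hs0)), map_one]⟩
    obtain ⟨K₁, iF₁, iA₁, t₁, hfd, hsep₁, htop, ht₁, hle₁⟩ := root_field f hf (by omega) hfsep
    haveI := hfd
    rw [hfdeg] at hle₁
    have heq : ∀ (F : Type u) [Field F] [Algebra K F] (y : F), aeval y f = 0 →
        y ^ P = algebraMap K F s * (1 + algebraMap K F s ^ n * y) := by
      intro F _ _ y hy
      simp only [f, map_sub, map_add, map_mul, map_pow, aeval_X, aeval_C] at hy
      rw [sub_eq_zero] at hy
      rw [hy, pow_succ]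
      ring
    letI : Algebra A K₁ := ((algebraMap K K₁).comp (algebraMap A K)).toAlgebra
    haveI : IsScalarTower A K K₁ := IsScalarTower.of_algebraMap_eq fun _ => rfl
    have hπK₁ : algebraMap A K₁ π ≠ 0 := (map_ne_zero_iff _ (ASKumLib.injective_algebraMap' (K := K))).2 hπ.ne_zero
    have htr := ASKumLib.totallyRamified_of_root (K := K) (Nat.zero_lt_of_lt hP1) hle₁ hπ t₁ fun V hV =>
      (root_valuation (Nat.zero_lt_of_lt hP1) (hV.2 π hπ.not_isUnit) hπK₁ n (heq K₁ t₁ ht₁)).2
    refine ⟨K₁, iF₁, iA₁, hfd, hsep₁, htr.1, ?_⟩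
    intro F _ _ _ _ _ _ hgenF W hW
    letI : Algebra C F := ((algebraMap M F).comp (algebraMap C M)).toAlgebra
    haveI : IsScalarTower C M F := IsScalarTower.of_algebraMap_eq fun _ => rfl
    letI : Algebra L F := ((algebraMap M F).comp (algebraMap L M)).toAlgebra
    haveI : IsScalarTower L M F := IsScalarTower.of_algebraMap_eq fun _ => rfl
    haveI : IsScalarTower K L F := IsScalarTower.of_algebraMap_eq fun x => by
      show algebraMap K F x = algebraMap M F (algebraMap L M (algebraMap K L x))
      rw [← IsScalarTower.algebraMap_apply K L M, ← IsScalarTower.algebraMap_apply]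
    letI : Algebra B F := ((algebraMap L F).comp (algebraMap B L)).toAlgebra
    haveI : IsScalarTower B L F := IsScalarTower.of_algebraMap_eq fun _ => rfl
    haveI : IsScalarTower B C F := IsScalarTower.of_algebraMap_eq fun x => by
      show algebraMap M F (algebraMap L M (algebraMap B L x)) = algebraMap M F (algebraMap C M (algebraMap B C x))
      rw [← IsScalarTower.algebraMap_apply B L M, ← IsScalarTower.algebraMap_apply B C M]
    letI : Algebra A F := ((algebraMap B F).comp (algebraMap A B)).toAlgebra
    haveI : IsScalarTower A B F := IsScalarTower.of_algebraMap_eq fun _ => rfl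
    have hAF : ∀ a : A, algebraMap K F (algebraMap A K a) = algebraMap A F a := fun a => by
      show _ = algebraMap L F (algebraMap B L (algebraMap A B a))
      rw [← IsScalarTower.algebraMap_apply A B L, IsScalarTower.algebraMap_apply A K L,
        ← IsScalarTower.algebraMap_apply K L F]
    have hπF : algebraMap A F π = algebraMap B F πB := rfl
    haveI : CharP F p := charP_of_injective_algebraMap (algebraMap L F).injective p
    have hWB : EtRam.Dominates B (algebraMap B F) W := dominates_of_dominates (B := B) (C := C) hW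
    obtain ⟨h1, h2⟩ := finite_of_generated (K := K) (E := M) t₁ htop f hf ht₁ hgenF
    haveI := h1
    haveI : FiniteDimensional L F := FiniteDimensional.trans L M F
    set θ := algebraMap K₁ F t₁ with hθdef
    have hθ : θ ^ p ^ N = algebraMap B F πB * (1 + algebraMap B F πB ^ n * θ) := by
      have h := heq F θ (by rw [hθdef, aeval_algebraMap_apply, ht₁, map_zero])
      rwa [show algebraMap K F s = algebraMap B F πB from (hAF π).trans hπF] at h
    obtain ⟨a, ha⟩ : ∃ a : A, α * algebraMap A K π ^ n = algebraMap A K a := by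
      rcases hα with rfl | ⟨n', a, -, hle, -, -, ha⟩
      · exact ⟨0, by simp⟩
      · refine ⟨a * π ^ (n - n'), ?_⟩
        rw [map_mul, map_pow, ← ha, mul_assoc, ← pow_add, Nat.add_sub_cancel' hle]
    have hroot : ∀ a : A, ∃ r d : A, a = r ^ p ^ N + π * d := fun a => by
      obtain ⟨r, hr⟩ := exists_root_residue (B := B) hk a N
      obtain ⟨d, hd⟩ : π ∣ a - r ^ p ^ N := by
        rw [← Ideal.mem_span_singleton, ← hπ.maximalIdeal_eq, ← residue_eq_zero_iff, map_sub, map_pow, hr, sub_self]
      exact ⟨r, d, by rw [← hd]; ring⟩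
    obtain ⟨zr, hzr⟩ := exists_resIndep (L := L) (B := B) (F := F) (π := πB) (θ := θ) (N := N) (J := n)
      (ϖ := π) rfl hroot hWB hπB hθ S hS0 v m (fun i hi => by
        obtain ⟨h1, h2, h3, h4⟩ := hS i hi
        exact ⟨h1, h2, by have := Finset.le_sup (f := m) hi; omega, h3, h4⟩)
      (algebraMap M F w₀) (algebraMap K F α) b₀ a
      (by rw [← hπF, ← hAF, ← map_pow, ← map_mul, ha, hAF])
      (by
        rw [← map_pow, ← map_sub, hw₀eq, ← IsScalarTower.algebraMap_apply L M F, map_add, map_add, map_sum,
          ← IsScalarTower.algebraMap_apply B L F, ← IsScalarTower.algebraMap_apply K L F]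
        refine congrArg _ (Finset.sum_congr rfl fun i _ => ?_)
        rw [map_div₀, map_pow, map_pow, ← IsScalarTower.algebraMap_apply B L F,
          IsScalarTower.algebraMap_apply A B L π, ← IsScalarTower.algebraMap_apply B L F])
    have hv : W.valuation θ ^ P = W.valuation (algebraMap B F πB) :=
      (root_valuation (Nat.zero_lt_of_lt hP1) (hWB.2 πB hπB.not_isUnit)
        (PInsepStepLib.algebraMap_ne_zero (L := L) hπB.ne_zero) n hθ).2
    exact weaklyUnramified_comap W (algebraMap K₁ F) t₁ (theta_lt_one hWB hπB hv)
      (le_theta (L := L) (Nat.zero_lt_of_lt hP1) hWB hzr hπB hv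
        (by rw [← Module.finrank_mul_finrank L M F, hdeg, Fintype.card_prod, Fintype.card_fin, Fintype.card_fin,
              mul_comm]
            exact Nat.mul_le_mul_right p (h2.trans_eq hfdeg)))
  rw [Finset.not_nonempty_iff_eq_empty.1 hS0, Finset.sum_empty, add_zero] at hw₀eq
  rcases hα with rfl | ⟨n', a, hn', -, hpn', hau, ha⟩
  · -- no extension needed
    rw [map_zero, add_zero] at hw₀eq
    obtain ⟨K₁, iF₁, iA₁, t₁, hfd, hsep₁, htop, ht₁, hle₁⟩ :=
      root_field (X : K[X]) monic_X (by simp) Polynomial.separable_X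
    haveI := hfd
    rw [natDegree_X] at hle₁
    letI : Algebra A K₁ := ((algebraMap K K₁).comp (algebraMap A K)).toAlgebra
    haveI : IsScalarTower A K K₁ := IsScalarTower.of_algebraMap_eq fun _ => rfl
    have htr := ASKumLib.totallyRamified_of_root (A := A) (K := K) (L := K₁) (p := 1) Nat.one_pos
      hle₁ hπ (algebraMap A K₁ π) fun V _ => pow_one _
    refine ⟨K₁, iF₁, iA₁, hfd, hsep₁, htr.1, ?_⟩
    intro F _ _ _ _ _ _ hgenF W hW
    letI : Algebra C F := ((algebraMap M F).comp (algebraMap C M)).toAlgebra
    haveI : IsScalarTower C M F := IsScalarTower.of_algebraMap_eq fun _ => rfl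
    letI : Algebra L F := ((algebraMap M F).comp (algebraMap L M)).toAlgebra
    haveI : IsScalarTower L M F := IsScalarTower.of_algebraMap_eq fun _ => rfl
    haveI : IsScalarTower K L F := IsScalarTower.of_algebraMap_eq fun x => by
      show algebraMap K F x = algebraMap M F (algebraMap L M (algebraMap K L x))
      rw [← IsScalarTower.algebraMap_apply K L M, ← IsScalarTower.algebraMap_apply]
    letI : Algebra B F := ((algebraMap L F).comp (algebraMap B L)).toAlgebra
    haveI : IsScalarTower B L F := IsScalarTower.of_algebraMap_eq fun _ => rfl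
    haveI : IsScalarTower B C F := IsScalarTower.of_algebraMap_eq fun x => by
      show algebraMap M F (algebraMap L M (algebraMap B L x)) = algebraMap M F (algebraMap C M (algebraMap B C x))
      rw [← IsScalarTower.algebraMap_apply B L M, ← IsScalarTower.algebraMap_apply B C M]
    have hWB : EtRam.Dominates B (algebraMap B F) W := dominates_of_dominates (B := B) (C := C) hW
    set w := algebraMap M F w₀ with hwdef
    have hwgen : IntermediateField.adjoin L {w} = ⊤ :=
      eq_top_of_generated (K := K) _ hgen₀ (IntermediateField.mem_adjoin_simple_self L w) htop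
        (by rw [show t₁ = 0 by simpa using ht₁, map_zero]; exact zero_mem _) hgenF
    have hweq : w ^ p - w = algebraMap B F b₀ := by
      rw [hwdef, ← map_pow, ← map_sub, hw₀eq]
      rfl
    have hsub : (X ^ p - X - Polynomial.C (algebraMap B L b₀) : L[X]).Monic := by
      refine Monic.sub_of_left ((monic_X_pow p).sub_of_left ?_) ?_
      · rw [degree_X, degree_X_pow]; exact_mod_cast hp.one_lt
      · rw [degree_sub_eq_left_of_degree_lt, degree_X_pow]
        · exact lt_of_le_of_lt degree_C_le (by exact_mod_cast hp.pos)
        · rw [degree_X, degree_X_pow]; exact_mod_cast hp.one_lt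
    obtain ⟨hfdF, -, -⟩ := ASKumLib.finiteDimensional_of_gen (z := w) _ hsub
      (by simp [hweq, ← IsScalarTower.algebraMap_apply B L F]) hwgen
    haveI := hfdF
    have hKB : algebraMap K F (algebraMap A K π) = algebraMap B F πB := by
      show _ = algebraMap L F (algebraMap B L (algebraMap A B π))
      rw [← IsScalarTower.algebraMap_apply A B L, IsScalarTower.algebraMap_apply A K L,
        ← IsScalarTower.algebraMap_apply K L F]
    have hK₁B : algebraMap K₁ F (algebraMap A K₁ π) = algebraMap B F πB := by
      rw [← hKB]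
      exact (IsScalarTower.algebraMap_apply K K₁ F _).symm
    refine weaklyUnramified_comap W _ (algebraMap A K₁ π) ?_ ?_
    · rw [hK₁B]; exact hWB.2 πB hπB.not_isUnit
    · rw [hK₁B]; exact le_pi_of_root (L := L) (p := p) hWB hπB hweq hwgen
  · -- the totally ramified Artin-Schreier extension of the base
    let fA : A[X] := X ^ p - X
    have hXdeg : ∀ (R : Type u) [CommRing R] [Nontrivial R], (X : R[X]).degree < (X ^ p : R[X]).degree := by
      intro R _ _
      rw [degree_X, degree_X_pow]; exact_mod_cast hp.one_lt
    have hfA : fA.Monic := (monic_X_pow p).sub_of_left (hXdeg A)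
    have hfAdeg : fA.natDegree = p := by
      rw [natDegree_eq_of_degree_eq (degree_sub_eq_left_of_degree_lt (hXdeg A)), natDegree_X_pow]
    let f : K[X] := X ^ p - X - Polynomial.C α
    have hf : f.Monic := ((monic_X_pow p).sub_of_left (hXdeg K)).sub_of_left (by
      rw [degree_sub_eq_left_of_degree_lt (hXdeg K), degree_X_pow]
      exact lt_of_le_of_lt degree_C_le (by exact_mod_cast hp.pos))
    have hfdeg : f.natDegree = p := by
      rw [natDegree_sub_C, natDegree_eq_of_degree_eq (degree_sub_eq_left_of_degree_lt (hXdeg K)), natDegree_X_pow]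
    have hfsep : f.Separable := by
      rw [Polynomial.separable_def, show derivative f = Polynomial.C (-1) by
        simp [f, derivative_X_pow, CharP.cast_eq_zero]]
      exact IsCoprime.symm ⟨Polynomial.C (-1), 0, by rw [zero_mul, add_zero, ← map_mul]; simp⟩
    obtain ⟨K₁, iF₁, iA₁, t₁, hfd, hsep₁, htop, ht₁, hle₁⟩ := root_field f hf (by rw [hfdeg]; exact hp.ne_zero) hfsep
    haveI := hfd
    rw [hfdeg] at hle₁
    letI : Algebra A K₁ := ((algebraMap K K₁).comp (algebraMap A K)).toAlgebra
    haveI : IsScalarTower A K K₁ := IsScalarTower.of_algebraMap_eq fun _ => rfl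
    have hzf : aeval t₁ fA = algebraMap K K₁ α := by
      have h := ht₁
      simp only [f, fA, map_sub, map_pow, aeval_X, aeval_C, sub_eq_zero] at h ⊢
      exact h
    have htr := ASKumLib.pole_case3 (K := K) hp hle₁ fA hfA hfAdeg α t₁ hzf hπ hn' hpn' hau.unit ha
    refine ⟨K₁, iF₁, iA₁, hfd, hsep₁, htr.1, ?_⟩
    intro F _ _ _ _ _ _ hgenF W hW
    letI : Algebra C F := ((algebraMap M F).comp (algebraMap C M)).toAlgebra
    haveI : IsScalarTower C M F := IsScalarTower.of_algebraMap_eq fun _ => rfl
    letI : Algebra L F := ((algebraMap M F).comp (algebraMap L M)).toAlgebra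
    haveI : IsScalarTower L M F := IsScalarTower.of_algebraMap_eq fun _ => rfl
    haveI : IsScalarTower K L F := IsScalarTower.of_algebraMap_eq fun x => by
      show algebraMap K F x = algebraMap M F (algebraMap L M (algebraMap K L x))
      rw [← IsScalarTower.algebraMap_apply K L M, ← IsScalarTower.algebraMap_apply]
    letI : Algebra B F := ((algebraMap L F).comp (algebraMap B L)).toAlgebra
    haveI : IsScalarTower B L F := IsScalarTower.of_algebraMap_eq fun _ => rfl
    haveI : IsScalarTower B C F := IsScalarTower.of_algebraMap_eq fun x => by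
      show algebraMap M F (algebraMap L M (algebraMap B L x)) = algebraMap M F (algebraMap C M (algebraMap B C x))
      rw [← IsScalarTower.algebraMap_apply B L M, ← IsScalarTower.algebraMap_apply B C M]
    have hWB : EtRam.Dominates B (algebraMap B F) W := dominates_of_dominates (B := B) (C := C) hW
    haveI : CharP F p := charP_of_injective_algebraMap (algebraMap L F).injective p
    obtain ⟨h1, h2⟩ := finite_of_generated (K := K) (E := M) t₁ htop f hf ht₁ hgenF
    haveI := h1
    haveI : FiniteDimensional L F := FiniteDimensional.trans L M F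
    -- the unramified part
    set z₁ := algebraMap K₁ F t₁ with hz₁
    set w := algebraMap M F w₀ - z₁ with hwdef
    have ht₁eq : t₁ ^ p - t₁ = algebraMap K K₁ α := by simpa [fA] using hzf
    have hweq : w ^ p - w = algebraMap B F b₀ := by
      rw [hwdef, sub_pow_char]
      have h1 := congrArg (algebraMap M F) hw₀eq
      rw [map_sub, map_pow, ← IsScalarTower.algebraMap_apply L M F, map_add,
        ← IsScalarTower.algebraMap_apply B L F, ← IsScalarTower.algebraMap_apply K L F] at h1
      have h2 := congrArg (algebraMap K₁ F) ht₁eq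
      rw [map_sub, map_pow, ← IsScalarTower.algebraMap_apply K K₁ F] at h2
      linear_combination h1 - h2
    let L' := IntermediateField.adjoin L ({w} : Set F)
    letI : Algebra B L' := ((algebraMap L L').comp (algebraMap B L)).toAlgebra
    haveI : IsScalarTower B L L' := IsScalarTower.of_algebraMap_eq fun _ => rfl
    let V' : ValuationSubring L' := W.comap L'.val.toRingHom
    have hV' : EtRam.Dominates B (algebraMap B L') V' := by
      refine ⟨fun b => hWB.1 b, fun b hb => ?_⟩
      refine (V'.valuation_lt_one_iff ⟨_, hWB.1 b⟩).1 ?_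
      rw [mem_maximalIdeal, mem_nonunits_iff]
      exact fun hu => (mem_maximalIdeal _).1 ((W.valuation_lt_one_iff ⟨_, hWB.1 b⟩).2 (hWB.2 b hb))
        (hu.map (EtRam.inclOfComap W L'.val.toRingHom))
    let w' : L' := ⟨w, IntermediateField.mem_adjoin_simple_self L w⟩
    have hw' : w' ^ p - w' = algebraMap B L' b₀ := Subtype.ext hweq
    have hgen' : IntermediateField.adjoin L {w'} = ⊤ := by
      apply IntermediateField.map_injective L'.val
      rw [IntermediateField.adjoin_map, ← AlgHom.fieldRange_eq_map, IntermediateField.fieldRange_val,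
        Set.image_singleton]
      rfl
    have hmax' := le_pi_of_root (L := L) (p := p) hV' hπB hw' hgen'
    obtain ⟨hdvr, hirr'⟩ := isDVR_of_max (L := L) hV' hπB hmax'
    haveI := hdvr
    letI : Algebra V' F := ((algebraMap L' F).comp (algebraMap V' L')).toAlgebra
    haveI : IsScalarTower V' L' F := IsScalarTower.of_algebraMap_eq fun _ => rfl
    have hWV' : EtRam.Dominates V' (algebraMap V' F) W := by
      refine ⟨fun x => x.2, fun x hx => ?_⟩
      exact (W.valuation_lt_one_iff _).1 (map_nonunit (EtRam.inclOfComap W L'.val.toRingHom) x hx)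
    have hgenL' : IntermediateField.adjoin L' {z₁} = ⊤ := by
      have hG := eq_top_of_generated (K := K) ((IntermediateField.adjoin L' {z₁}).restrictScalars L) hgen₀ (by
          rw [IntermediateField.mem_restrictScalars, show algebraMap M F w₀ = algebraMap L' F w' + z₁ by
            show _ = w + z₁
            rw [hwdef, sub_add_cancel]]
          exact add_mem ((IntermediateField.adjoin L' {z₁}).algebraMap_mem w')
            (IntermediateField.mem_adjoin_simple_self L' z₁)) htop
        (IntermediateField.mem_adjoin_simple_self L' z₁) hgenF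
      exact IntermediateField.restrictScalars_eq_top_iff.1 hG
    haveI : IsScalarTower K L' F := IsScalarTower.of_algebraMap_eq fun x => by
      rw [IsScalarTower.algebraMap_apply K L L', ← IsScalarTower.algebraMap_apply L L' F,
        ← IsScalarTower.algebraMap_apply K L F]
    obtain ⟨hfd', hle', -⟩ := ASKumLib.finiteDimensional_of_gen (K := L') (z := z₁)
      (f.map (algebraMap K L')) (hf.map _)
      (by rw [aeval_map_algebraMap, hz₁, aeval_algebraMap_apply, ht₁, map_zero]) hgenL'
    haveI := hfd'
    -- a uniformizer of the ramified part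
    obtain ⟨i, e, hie⟩ : ∃ i e : ℤ, i * (-(n' : ℤ)) + (p : ℤ) * e = 1 := by
      have hcop : IsCoprime (p : ℤ) (-(n' : ℤ)) := (Prime.coprime_iff_not_dvd (Nat.prime_iff_prime_int.1 hp)).2
        (by rw [dvd_neg, Int.natCast_dvd_natCast]; exact hpn')
      obtain ⟨a, b, hab⟩ := hcop
      exact ⟨b, a, by linarith⟩
    set τ : K₁ := t₁ ^ i * algebraMap A K₁ π ^ e with hτ
    have hπ₁F : algebraMap K₁ F (algebraMap A K₁ π) = algebraMap B F πB := by
      show algebraMap K₁ F (algebraMap K K₁ (algebraMap A K π)) = algebraMap L F (algebraMap B L (algebraMap A B π))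
      rw [← IsScalarTower.algebraMap_apply K K₁ F, ← IsScalarTower.algebraMap_apply A B L,
        IsScalarTower.algebraMap_apply A K L, ← IsScalarTower.algebraMap_apply K L F]
    have hτv : W.valuation (algebraMap K₁ F τ) ^ p = W.valuation (algebraMap B F πB) := by
      set c' := W.valuation (algebraMap B F πB) with hc'
      have hc0 : c' ≠ 0 := (val_pos (L := L) hπB.ne_zero).ne'
      have hKF : ∀ r : A, algebraMap K F (algebraMap A K r) = algebraMap B F (algebraMap A B r) := fun r => by
        show _ = algebraMap L F (algebraMap B L (algebraMap A B r))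
        rw [← IsScalarTower.algebraMap_apply A B L, IsScalarTower.algebraMap_apply A K L,
          ← IsScalarTower.algebraMap_apply K L F]
      have hprod : W.valuation (algebraMap K F α) * c' ^ n' = 1 := by
        have h := congrArg (fun x => W.valuation (algebraMap K F x)) ha
        simp only [map_mul, map_pow, hKF] at h
        rw [hc', h]
        exact PInsepStepLib.val_unit hWB (Units.map (algebraMap A B).toMonoidHom hau.unit)
      have hαgt : 1 < W.valuation (algebraMap K F α) := by
        by_contra! h
        refine absurd hprod (lt_of_le_of_lt (mul_le_of_le_one_left' h) ?_).ne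
        exact pow_lt_one₀ zero_le' (hWB.2 πB hπB.not_isUnit) hn'.ne'
      have hzF : z₁ ^ p - z₁ = algebraMap K F α := by
        rw [hz₁, ← map_pow, ← map_sub, ht₁eq, ← IsScalarTower.algebraMap_apply K K₁ F]
      have hzgt : 1 < W.valuation z₁ := by
        by_contra! h
        refine not_le.2 hαgt ?_
        rw [← hzF]
        exact Valuation.map_sub_le _ (by rw [map_pow]; exact pow_le_one₀ zero_le' h) h
      have hzv : W.valuation z₁ ^ p = c' ^ (-(n' : ℤ)) := by
        rw [zpow_neg, zpow_natCast, ← map_pow]
        rw [← hzF, Valuation.map_sub_eq_of_lt_left _ (by rw [map_pow]; exact lt_self_pow₀ hzgt hp.one_lt)] at hprod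
        exact eq_inv_of_mul_eq_one_left hprod
      rw [hτ, map_mul, map_zpow₀, map_zpow₀, hπ₁F, map_mul, map_zpow₀, map_zpow₀, mul_pow, ← hz₁, ← hc',
        ← zpow_natCast (W.valuation z₁ ^ i), ← zpow_mul, mul_comm i, zpow_mul, zpow_natCast, hzv, ← zpow_mul,
        ← zpow_natCast (c' ^ e), ← zpow_mul, ← zpow_add₀ hc0, show -(n' : ℤ) * i + e * (p : ℤ) = 1 by linarith,
        zpow_one]
    have hv : W.valuation (algebraMap K₁ F τ) ^ p =
        W.valuation (algebraMap V' F ⟨algebraMap B L' πB, hV'.1 πB⟩) := hτv
    exact weaklyUnramified_comap W (algebraMap K₁ F) τ (theta_lt_one hWV' hirr' hv)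
      (le_theta (L := L') hp.pos hWV' (resIndep_one hWV') hirr' hv
        (by rw [Fintype.card_prod, Fintype.card_fin, Fintype.card_unit, mul_one]
            exact hle'.trans (natDegree_map_le.trans_eq hfdeg)))

end Groth.Agent.ASWeakLib
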